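import Cfsg.Agent.H823.O8R.Defs
import Cfsg.Agent.H659.O8.Own
import Cfsg.Agent.OddHalf.Known

/-!
# S3691, row `PΩ⁺₈(q)`, `q ≥ 16`, box F34-A: own characteristic (helper60, statement of helper683)
-/

set_option autoImplicit false
set_option linter.unusedSectionVars false

namespace Cfsg.Agent.H60.O8R

open Cfsg Cfsg.Geo Cfsg.Agent.OrdDiv Cfsg.Agent.H436 Cfsg.Agent.H915.GN Cfsg.Agent.H264.GN Cfsg.Agent.H264.FKS
open Cfsg.Agent.H902 Cfsg.Agent.H902.Names Cfsg.Agent.H915.LD Cfsg.Agent.H884.El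
open Cfsg.Agent.H708.O8 (I8 T8 RB)
open Cfsg.Agent.H659.O8 Cfsg.Agent.H823.O8S Cfsg.Agent.H823.O8R
open scoped MatrixGroups Matrix

universe u

variable {p a e t : ℕ} {g : Grp}

/-- a primitive prime of an exponent `≥ 3 a` does not divide the order of the group of diagonal outer automorphisms -/
theorem not_dvd_dd (E : Prim p e t) (h5 : 5 ≤ t) (he : 3 * a ≤ e) {X : Art.Sh} {f : ℕ} (hg : Cond g) (h : IsLie g X p f)
    (hf : 1 ≤ f) (hM : f * Mg g < 6 * a) : ¬ t ∣ Art.dd X (p ^ f) := by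
  have h4 : ∀ {m n : ℕ}, m ≤ 4 → 0 < m → t ∣ Nat.gcd m n → False := fun h1 h2 h3 => by
    have := Nat.le_of_dvd h2 (h3.trans (Nat.gcd_dvd_left _ _))
    omega
  have h1 : t ∣ 1 → False := fun h => by
    have := Nat.dvd_one.1 h
    omega
  intro hd
  cases h with
  | psl n p f =>
    have hd' : t ∣ Nat.gcd n (p ^ f - 1) := hd
    have h2 := hd'.trans (Nat.gcd_dvd_right _ _)
    rw [E.dvd_iff] at h2
    have h3 := Nat.le_of_dvd (by omega) h2
    have h6 : f * 2 ≤ f * n := Nat.mul_le_mul_left _ hg.1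
    have h7 : f * n < 6 * a := hM
    omega
  | psu n p f =>
    have hd' : t ∣ Nat.gcd n (p ^ f + 1) := hd
    have h2 := hd'.trans (Nat.gcd_dvd_right _ _)
    have h3 := h2.trans (add_dvd p f)
    rw [E.dvd_iff] at h3
    have h6 := Nat.le_of_dvd (by omega) h3
    have h7 : f * (2 * (if n % 2 = 0 then n - 1 else n)) < 6 * a := hM
    have h8 : f * 6 ≤ f * (2 * (if n % 2 = 0 then n - 1 else n)) := by
      apply Nat.mul_le_mul_left
      have := hg.1
      split_ifs <;> omega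
    omega
  | psp n p f => exact h4 (by norm_num) (by norm_num) hd
  | oodd n p f hn ho => exact h4 (by norm_num) (by norm_num) hd
  | oplus n p f => exact h4 (by norm_num) (by norm_num) hd
  | ominus n p f => exact h4 (by norm_num) (by norm_num) hd
  | e6 p f => exact h4 (by norm_num) (by norm_num) hd
  | e7 p f => exact h4 (by norm_num) (by norm_num) hd
  | te6 p f => exact h4 (by norm_num) (by norm_num) hd
  | _ => exact h1 hd

/-- such a prime divides the order of the socle -/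
theorem dvd_soc (E : Prim p e t) (h5 : 5 ≤ t) (he : 3 * a ≤ e) (hp : p.Prime) {R : Type u} [Group R] [Finite R]
    (S : Subgroup R) [S.Normal] [IsSimpleGroup S] (hna : ¬ IsMulCommutative S)
    (hC : Subgroup.centralizer (S : Set R) = ⊥) (hn : IsNamed g S) (hch : HasChar p g) {f : ℕ} (hf : 1 ≤ f)
    (hfl : fld g = p ^ f) (hM : f * Mg g < 6 * a) (ht : t ∣ Nat.card R) : t ∣ Nat.card S := by
  have h2M : f * 2 ≤ f * Mg g := Nat.mul_le_mul_left _ (H659.O8.two_le_Mg hn.cond hch)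
  have h1 := ht.trans (dvd_aut S hC)
  rw [← H934.OutB.card_out_mul S hna] at h1
  obtain ⟨X, f₁, h6, h7', h8⟩ := exists_lie hp hn hch
  obtain rfl : f₁ = f := Nat.pow_right_injective hp.two_le (h8.symm.trans hfl)
  have het : e < t := lt_of_prim E
  have hout : ¬ t ∣ Nat.card (Cfsg.Out S) := by
    intro h9
    obtain ⟨k, h10, h11, -⟩ := H364.OutLie.card_out (not_comm hna) h6 hn.real h7'
    rw [h10] at h9
    rcases E.prime.dvd_mul.1 h9 with h12 | h12
    · rcases E.prime.dvd_mul.1 (h12.trans h11) with h13 | h13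
      · have h14 : t ∣ 2 ^ 3 * 3 := h13
        rcases E.prime.dvd_mul.1 h14 with h15 | h15
        · have := Nat.le_of_dvd (by norm_num) (E.prime.dvd_of_dvd_pow h15)
          omega
        · have := Nat.le_of_dvd (by norm_num) h15
          omega
      · exact not_dvd_dd E h5 he hn.cond h6 hf hM h13
    · have := Nat.le_of_dvd (by omega) h12
      omega
  rcases E.prime.dvd_mul.1 h1 with h2 | h2
  · exact absurd h2 hout
  · exact h2

/-! ### orders -/

/-- the bound -/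
def bd (q : ℕ) : ℕ := q ^ 6 * (q - 1) * (q ^ 3 - 1) * (q ^ 4 - 1)

theorem prB_three (q : ℕ) : prB q 3 = (q ^ 2 - 1) * (q ^ 4 - 1) * (q ^ 6 - 1) := by
  simp [prB, List.range_succ, mul_assoc]

theorem prB_four (q : ℕ) : prB q 4 = (q ^ 2 - 1) * (q ^ 4 - 1) * (q ^ 6 - 1) * (q ^ 8 - 1) := by
  simp [prB, List.range_succ, mul_assoc]

theorem sq_sub (x : ℕ) : x ^ 2 - 1 = (x - 1) * (x + 1) := by
  have := Nat.sq_sub_sq x 1
  rw [one_pow] at this
  rw [this, mul_comm]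

theorem bd_sq (q : ℕ) : bd (q ^ 2) = q ^ 12 * (q ^ 2 - 1) * (q ^ 6 - 1) * (q ^ 8 - 1) := by
  rw [bd, ← pow_mul, ← pow_mul, ← pow_mul]

theorem bd_psl {q N : ℕ} (hq : 16 ≤ q) (h : fPSL.den 4 q * N = fPSL.num 4 q) : bd q ≤ 2 * N := by
  have h1 : Nat.gcd 4 (q - 1) * (q - 1) * N = glN 4 q := h
  have h2 : glN 4 q = (q - 1) * (bd q * (q + 1)) := by
    have e1 : q ^ 4 - q = q * (q ^ 3 - 1) := by rw [Nat.mul_sub, mul_one]; ring_nf
    have e2 : q ^ 4 - q ^ 2 = q ^ 2 * (q ^ 2 - 1) := by rw [Nat.mul_sub, mul_one]; ring_nf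
    have e3 : q ^ 4 - q ^ 3 = q ^ 3 * (q - 1) := by rw [Nat.mul_sub, mul_one]; ring_nf
    have e4 : glN 4 q = (q ^ 4 - 1) * (q ^ 4 - q) * (q ^ 4 - q ^ 2) * (q ^ 4 - q ^ 3) := by
      simp [glN, List.range_succ, mul_assoc]
    rw [e4, e1, e2, e3, sq_sub q, bd]
    ring
  rw [h2, mul_comm (Nat.gcd 4 (q - 1)), mul_assoc] at h1
  have h3 : Nat.gcd 4 (q - 1) * N = bd q * (q + 1) := Nat.eq_of_mul_eq_mul_left (by omega) h1
  have h4 : Nat.gcd 4 (q - 1) * N ≤ 4 * N := Nat.mul_le_mul_right _ (Nat.gcd_le_left _ (by norm_num))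
  have h5 : bd q * 2 ≤ bd q * (q + 1) := Nat.mul_le_mul_left _ (by omega)
  omega

theorem one_le_sub {q k : ℕ} (hq : 2 ≤ q) (hk : 1 ≤ k) : 1 ≤ q ^ k - 1 := by
  have : q ^ 1 ≤ q ^ k := Nat.pow_le_pow_right (by omega) hk
  rw [pow_one] at this
  omega

theorem bd_psp {q N : ℕ} (hq : 2 ≤ q) (h : fPSp.den 4 q * N = fPSp.num 4 q) : bd (q ^ 2) ≤ 2 * N := by
  have h1 : Nat.gcd 2 (q - 1) * N = q ^ (4 ^ 2) * prB q 4 := h
  rw [prB_four] at h1
  have h2 : q ^ (4 ^ 2) * ((q ^ 2 - 1) * (q ^ 4 - 1) * (q ^ 6 - 1) * (q ^ 8 - 1)) = bd (q ^ 2) * (q ^ 4 * (q ^ 4 - 1)) := by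
    rw [bd_sq]
    ring
  rw [h2] at h1
  have h4 : Nat.gcd 2 (q - 1) * N ≤ 2 * N := Nat.mul_le_mul_right _ (Nat.gcd_le_left _ (by norm_num))
  have h5 : bd (q ^ 2) * 1 ≤ bd (q ^ 2) * (q ^ 4 * (q ^ 4 - 1)) :=
    Nat.mul_le_mul_left _ (Nat.mul_pos (Nat.pow_pos (by omega)) (one_le_sub hq (by norm_num)))
  omega

theorem bd_oodd {q N : ℕ} (hq : 2 ≤ q) (h : fOOdd.den 4 q * N = fOOdd.num 4 q) : bd (q ^ 2) ≤ 2 * N := by
  have h1 : 2 * N = q ^ (4 ^ 2) * prB q 4 := h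
  rw [prB_four] at h1
  have h2 : q ^ (4 ^ 2) * ((q ^ 2 - 1) * (q ^ 4 - 1) * (q ^ 6 - 1) * (q ^ 8 - 1)) = bd (q ^ 2) * (q ^ 4 * (q ^ 4 - 1)) := by
    rw [bd_sq]
    ring
  rw [h2] at h1
  have h5 : bd (q ^ 2) * 1 ≤ bd (q ^ 2) * (q ^ 4 * (q ^ 4 - 1)) :=
    Nat.mul_le_mul_left _ (Nat.mul_pos (Nat.pow_pos (by omega)) (one_le_sub hq (by norm_num)))
  omega

theorem bd_oplus {q N : ℕ} (hq : 2 ≤ q) (h : fOPlus.den 5 q * N = fOPlus.num 5 q) : bd (q ^ 2) ≤ 2 * N := by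
  have h1 : Nat.gcd 4 (q ^ 5 - 1) * N = q ^ (5 * (5 - 1)) * ((q ^ 5 - 1) * prB q (5 - 1)) := h
  rw [show 5 - 1 = 4 by norm_num, prB_four] at h1
  have h2 : q ^ (5 * 4) * ((q ^ 5 - 1) * ((q ^ 2 - 1) * (q ^ 4 - 1) * (q ^ 6 - 1) * (q ^ 8 - 1))) =
      bd (q ^ 2) * (q ^ 8 * ((q ^ 5 - 1) * (q ^ 4 - 1))) := by
    rw [bd_sq]
    ring
  rw [h2] at h1
  have h4 : Nat.gcd 4 (q ^ 5 - 1) * N ≤ 4 * N := Nat.mul_le_mul_right _ (Nat.gcd_le_left _ (by norm_num))
  have h6 : 2 * 1 ≤ q ^ 8 * ((q ^ 5 - 1) * (q ^ 4 - 1)) := by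
    apply Nat.mul_le_mul
    · calc 2 ≤ q := hq
        _ = q ^ 1 := (pow_one q).symm
        _ ≤ q ^ 8 := Nat.pow_le_pow_right (by omega) (by norm_num)
    · exact Nat.mul_pos (one_le_sub hq (by norm_num)) (one_le_sub hq (by norm_num))
  have h5 : bd (q ^ 2) * (2 * 1) ≤ bd (q ^ 2) * (q ^ 8 * ((q ^ 5 - 1) * (q ^ 4 - 1))) := Nat.mul_le_mul_left _ h6
  omega

theorem bd_ominus {q N : ℕ} (h : fOMinus.den 4 q * N = fOMinus.num 4 q) : bd (q ^ 2) ≤ 2 * N := by
  have h1 : Nat.gcd 4 (q ^ 4 + 1) * N = q ^ (4 * (4 - 1)) * ((q ^ 4 + 1) * prB q (4 - 1)) := h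
  rw [show 4 - 1 = 3 by norm_num, prB_three] at h1
  have h8 : q ^ 8 - 1 = (q ^ 4 - 1) * (q ^ 4 + 1) := by
    rw [← sq_sub, ← pow_mul]
  have h2 : q ^ (4 * 3) * ((q ^ 4 + 1) * ((q ^ 2 - 1) * (q ^ 4 - 1) * (q ^ 6 - 1))) = bd (q ^ 2) := by
    rw [bd_sq, h8]
    ring
  rw [h2] at h1
  have h3 : ¬ 4 ∣ q ^ 4 + 1 := by
    rw [Nat.dvd_iff_mod_eq_zero, Nat.add_mod, Nat.pow_mod]
    have : q % 4 < 4 := Nat.mod_lt _ (by norm_num)
    interval_cases q % 4 <;> norm_num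
  have h4 : Nat.gcd 4 (q ^ 4 + 1) ≤ 2 := by
    have h5 : Nat.gcd 4 (q ^ 4 + 1) ∣ 4 := Nat.gcd_dvd_left _ _
    have h6 : Nat.gcd 4 (q ^ 4 + 1) ≤ 4 := Nat.le_of_dvd (by norm_num) h5
    have h7 : Nat.gcd 4 (q ^ 4 + 1) ≠ 4 := fun h => h3 (by
      have h9 := Nat.gcd_dvd_right 4 (q ^ 4 + 1)
      rwa [h] at h9)
    have h8 : Nat.gcd 4 (q ^ 4 + 1) ≠ 3 := fun h => by
      rw [h] at h5
      norm_num at h5
    omega
  have h5 : Nat.gcd 4 (q ^ 4 + 1) * N ≤ 2 * N := Nat.mul_le_mul_right _ h4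
  omega

section

variable {F : Type} [Field F] [Fintype F] {r b s k : ℕ} {R : Subgroup (T8 F)}

/-- **(F34-A)** own characteristic -/
theorem own34 (hF : Nat.card F = p ^ a) (h : Nm p a r b s k t) (S : Subgroup R) [S.Normal] (hS : IsSimpleGroup S)
    (hna : ¬ IsMulCommutative S) (hC : Subgroup.centralizer (S : Set R) = ⊥) (hL : IsLieTypeChar p S)
    (hr : r ∣ Nat.card R) (ht : t ∣ Nat.card R) (hs : ¬ s ∣ Nat.card R) :
    (p ^ a) ^ 6 * ((p ^ a) - 1) * ((p ^ a) ^ 3 - 1) * ((p ^ a) ^ 4 - 1) ≤ 2 * Nat.card S := by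
  have hp := h.rb.hp
  have ha := h.rb.ha
  have hq16 := h.q16
  obtain ⟨g, hn, hch⟩ := named_of_lie hp hL
  have hT8 : Nat.gcd 4 ((p ^ a) ^ 4 - 1) * Nat.card (T8 F) =
      (p ^ a) ^ (4 * (4 - 1)) * (((p ^ a) ^ 4 - 1) * prB (p ^ a) (4 - 1)) := by
    have h1 := oplus_eq (F := F) (m := 4) le_rfl
    rw [← Nat.card_eq_fintype_card, hF] at h1
    exact h1
  have hSR : Nat.card S ∣ Nat.card (T8 F) := (Subgroup.card_subgroup_dvd_card S).trans (Subgroup.card_subgroup_dvd_card R)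
  have hT : TD p a (Nat.card S) (fun i => 1 ≤ i ∧ i ≤ 6 ∧ (2 ∣ i ∨ i = 4)) 6 12 := by
    refine td_oplus hp ha (n := 4) (by norm_num) (hSR.trans ?_)
    rw [← hT8]
    exact Dvd.intro_left _ rfl
  obtain ⟨f, hf, hfl, hK, hY⟩ := kd_all hp hn.cond hch hn.eq
  have hM := top_le hp ha hK hY hT
  have hsS : ¬ s ∣ Nat.card S := fun h1 => hs (h1.trans (Subgroup.card_subgroup_dvd_card S))
  have hM' : f * Mg g < 6 * a := by
    rcases hM.lt_or_eq with h1 | h1
    · exact h1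
    · exact absurd (hK.has hY (by omega) (by rw [h1]; exact h.rk.prim)) hsS
  have hr5 : 5 ≤ r := by
    have := lt_of_prim h.rb.prim
    omega
  have ht5 : 5 ≤ t := by
    have h1 : 3 * a < t := lt_of_prim h.t
    rcases (show t = 4 ∨ 5 ≤ t by omega) with h2 | h2
    · exact absurd h.t.prime (by rw [h2]; decide)
    · exact h2
  have hrS := dvd_soc h.rb.prim hr5 (by omega) hp S hna hC hn hch hf hfl hM' hr
  have htS := dvd_soc h.t ht5 le_rfl hp S hna hC hn hch hf hfl hM' ht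
  obtain ⟨i, hi, hdi⟩ := hK.exp h.rb.prim hrS
  obtain ⟨j, hj, hdj⟩ := hK.exp h.t htS
  have hi1 := hK.le hi
  have hj1 := hK.le hj
  have ei : f * i = 4 * a := by
    have h1 : f * i ≤ f * Mg g := Nat.mul_le_mul_left _ hi1.2
    have h2 : 0 < f * i := Nat.mul_pos hf hi1.1
    obtain ⟨c, hc⟩ := hdi
    have : c = 1 := by
      rcases (show c = 0 ∨ c = 1 ∨ 2 ≤ c by omega) with h3 | h3 | h3
      · rw [h3] at hc; omega
      · exact h3
      · have : 4 * a * 2 ≤ 4 * a * c := Nat.mul_le_mul_left _ h3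
        omega
    rw [this] at hc
    omega
  have ej : f * j = 3 * a := by
    have h1 : f * j ≤ f * Mg g := Nat.mul_le_mul_left _ hj1.2
    have h2 : 0 < f * j := Nat.mul_pos hf hj1.1
    obtain ⟨c, hc⟩ := hdj
    have : c = 1 := by
      rcases (show c = 0 ∨ c = 1 ∨ 2 ≤ c by omega) with h3 | h3 | h3
      · rw [h3] at hc; omega
      · exact h3
      · have : 3 * a * 2 ≤ 3 * a * c := Nat.mul_le_mul_left _ h3
        omega
    rw [this] at hc
    omega
  have hji : j < i := by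
    by_contra h1
    have : f * i ≤ f * j := Nat.mul_le_mul_left _ (by omega)
    omega
  obtain ⟨c, rfl⟩ : ∃ c, i = j + c := ⟨i - j, by omega⟩
  have hac : a = f * c := by
    rw [mul_add] at ei
    omega
  subst hac
  have ej' : j = 3 * c := Nat.eq_of_mul_eq_mul_left hf (by rw [ej]; ring)
  subst ej'
  have hc1 : 1 ≤ c := by
    rcases Nat.eq_zero_or_pos c with h1 | h1
    · rw [h1, mul_zero] at ha
      omega
    · exact h1
  have hM6 : Mg g < 6 * c := Nat.lt_of_mul_lt_mul_left (a := f) (by rw [mul_left_comm f 6 c]; exact hM')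
  have hag : ag g ≤ 12 * c := by
    have h1 := hT.pp hK.pp
    exact Nat.le_of_mul_le_mul_left (by rw [show f * (12 * c) = f * c * 12 by ring]; exact h1) hf
  have hi4 : Xg g (4 * c) := by
    rw [show 4 * c = 3 * c + c by ring]
    exact hi
  -- primitive primes of the exponent `5 f`
  have five : Yg g 5 → (f = 1 → 1 ≤ c) → ¬ 5 ∣ c → False := by
    intro hY5 _ hc5
    obtain ⟨t', ht'⟩ := exists_prim (e := f * 5) hp.two_le (by omega) (by omega)
    obtain ⟨l, hl, hd⟩ := hT.exp ht' (hK.has hY5 (by omega) ht')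
    obtain ⟨h1, h2, h3⟩ := hl
    rw [mul_assoc] at hd
    have h4 : 5 ∣ c * l := Nat.dvd_of_mul_dvd_mul_left hf hd
    rcases (Nat.Prime.dvd_mul (by norm_num)).1 h4 with h5 | h5
    · exact hc5 h5
    · omega
  change bd (p ^ (f * c)) ≤ 2 * Nat.card S
  have hqp : p ^ (f * c) = (p ^ f) ^ c := pow_mul _ _ _
  have h2q : 2 ≤ p ^ f := by
    calc 2 ≤ p ^ 1 := by rw [pow_one]; exact hp.two_le
      _ ≤ p ^ f := Nat.pow_le_pow_right hp.pos hf
  cases g
  case psl m q =>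
    have hfl' : q = p ^ f := hfl
    have h1 : 1 ≤ 4 * c ∧ 4 * c ≤ m := hi4
    have h2 : m < 6 * c := hM6
    have h3 : m * (m - 1) / 2 ≤ 12 * c := hag
    have h4 : 4 * c * (4 * c - 1) ≤ m * (m - 1) := Nat.mul_le_mul h1.2 (by omega)
    have h5 : c = 1 := by
      by_contra h6
      have h7 : 4 * c * 7 ≤ 4 * c * (4 * c - 1) := Nat.mul_le_mul_left _ (by omega)
      omega
    subst h5
    rcases (show m = 4 ∨ m = 5 by omega) with rfl | rfl
    · have h6 : fPSL.den 4 q * Nat.card S = fPSL.num 4 q := hn.eq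
      rw [hfl'] at h6
      rw [mul_one] at hq16 ⊢
      exact bd_psl hq16 h6
    · exact (five ⟨by norm_num, le_rfl⟩ (fun _ => le_rfl) (by norm_num)).elim
  case psp m q =>
    have hfl' : q = p ^ f := hfl
    have h1 : 1 ≤ 4 * c ∧ 4 * c ≤ 2 * m ∧ 2 ∣ 4 * c := hi4
    have h1' : 1 ≤ 3 * c ∧ 3 * c ≤ 2 * m ∧ 2 ∣ 3 * c := hj
    have h2 : 2 * m < 6 * c := hM6
    have h3 : m ^ 2 ≤ 12 * c := hag
    have h4 : (2 * c) * (2 * c) ≤ m ^ 2 := by
      rw [pow_two]
      exact Nat.mul_le_mul (by omega) (by omega)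
    have h5 : c = 2 := by
      by_contra h6
      have h7 : 2 * c * 8 ≤ 2 * c * (2 * c) := Nat.mul_le_mul_left _ (by omega)
      omega
    subst h5
    have h6 : m = 4 := by
      by_contra h6
      have : m = 5 := by omega
      subst this
      omega
    subst h6
    have h6 : fPSp.den 4 q * Nat.card S = fPSp.num 4 q := hn.eq
    rw [hfl'] at h6
    rw [hqp]
    exact bd_psp h2q h6
  case psu m q =>
    exfalso
    have h1 : XU m (4 * c) := hi4
    have h1' : XU m (3 * c) := hj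
    have h2 : 2 * (if m % 2 = 0 then m - 1 else m) < 6 * c := hM6
    have h3 : 2 ∣ 3 * c := (XU_le h1').2.2
    rcases h1 with h4 | ⟨j, h4, h5, h6⟩
    · split_ifs at h2 <;> omega
    · omega
  case oodd m q =>
    have hfl' : q = p ^ f := hfl
    have h1 : 1 ≤ 4 * c ∧ 4 * c ≤ 2 * m ∧ 2 ∣ 4 * c := hi4
    have h1' : 1 ≤ 3 * c ∧ 3 * c ≤ 2 * m ∧ 2 ∣ 3 * c := hj
    have h2 : 2 * m < 6 * c := hM6
    have h3 : m ^ 2 ≤ 12 * c := hag
    have h4 : (2 * c) * (2 * c) ≤ m ^ 2 := by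
      rw [pow_two]
      exact Nat.mul_le_mul (by omega) (by omega)
    have h5 : c = 2 := by
      by_contra h6
      have h7 : 2 * c * 8 ≤ 2 * c * (2 * c) := Nat.mul_le_mul_left _ (by omega)
      omega
    subst h5
    have h6 : m = 4 := by
      by_contra h6
      have : m = 5 := by omega
      subst this
      omega
    subst h6
    have h6 : fOOdd.den 4 q * Nat.card S = fOOdd.num 4 q := hn.eq
    rw [hfl'] at h6
    rw [hqp]
    exact bd_oodd h2q h6
  case oplus m q =>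
    have hfl' : q = p ^ f := hfl
    have h1 : 1 ≤ 4 * c ∧ 4 * c ≤ 2 * (m - 1) ∧ (2 ∣ 4 * c ∨ 4 * c = m) := hi4
    have h1' : 1 ≤ 3 * c ∧ 3 * c ≤ 2 * (m - 1) ∧ (2 ∣ 3 * c ∨ 3 * c = m) := hj
    have h2 : 2 * (m - 1) < 6 * c := hM6
    have h3 : m * (m - 1) ≤ 12 * c := hag
    have h0 : 4 ≤ m := hn.cond.1
    have h4 : (2 * c + 1) * (2 * c) ≤ m * (m - 1) := Nat.mul_le_mul (by omega) (by omega)
    have h5 : c = 2 := by
      by_contra h6
      have h7 : 7 * (2 * c) ≤ (2 * c + 1) * (2 * c) := Nat.mul_le_mul_right _ (by omega)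
      omega
    subst h5
    have h6 : m = 5 := by
      by_contra h6
      have : m = 6 := by omega
      subst this
      omega
    subst h6
    have h6 : fOPlus.den 5 q * Nat.card S = fOPlus.num 5 q := hn.eq
    rw [hfl'] at h6
    rw [hqp]
    exact bd_oplus h2q h6
  case ominus m q =>
    have hfl' : q = p ^ f := hfl
    have h1 : 1 ≤ 4 * c ∧ 4 * c ≤ 2 * m ∧ 2 ∣ 4 * c := hi4
    have h1' : 1 ≤ 3 * c ∧ 3 * c ≤ 2 * m ∧ 2 ∣ 3 * c := hj
    have h2 : 2 * m < 6 * c := hM6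
    have h3 : m * (m - 1) ≤ 12 * c := hag
    have h0 : 4 ≤ m := hn.cond.1
    have h4 : (2 * c) * (2 * c - 1) ≤ m * (m - 1) := Nat.mul_le_mul (by omega) (by omega)
    have h5 : c = 2 := by
      by_contra h6
      have h7 : 2 * c * 7 ≤ 2 * c * (2 * c - 1) := Nat.mul_le_mul_left _ (by omega)
      omega
    subst h5
    rcases (show m = 4 ∨ m = 5 by omega) with rfl | rfl
    · have h6 : fOMinus.den 4 q * Nat.card S = fOMinus.num 4 q := hn.eq
      rw [hfl'] at h6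
      rw [hqp]
      exact bd_ominus h6
    · -- the exponent `10 f = 5 a`
      exfalso
      obtain ⟨t', ht'⟩ := exists_prim (e := f * 10) hp.two_le (by omega) (by omega)
      have hY10 : Yg (.ominus 5 q) 10 := ⟨by norm_num, by norm_num, by norm_num⟩
      obtain ⟨l, hl, hd⟩ := hT.exp ht' (hK.has hY10 (by omega) ht')
      obtain ⟨h1, h2, h3⟩ := hl
      rw [mul_assoc] at hd
      have h4 : 10 ∣ 2 * l := Nat.dvd_of_mul_dvd_mul_left hf hd
      omega
  case g2 q =>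
    exfalso
    have h1 : 4 * c ∈ [2, 6] := hi4
    simp only [List.mem_cons, List.not_mem_nil, or_false] at h1
    omega
  case f4 q =>
    exfalso
    have h1 : 4 * c ∈ [2, 6, 8, 12] := hi4
    have h2 : 3 * c ∈ [2, 6, 8, 12] := hj
    have h3 : 12 < 6 * c := hM6
    simp only [List.mem_cons, List.not_mem_nil, or_false] at h1 h2
    omega
  case e6 q =>
    exfalso
    have h1 : 4 * c ∈ [2, 5, 6, 8, 9, 12] := hi4
    have h3 : 12 < 6 * c := hM6
    simp only [List.mem_cons, List.not_mem_nil, or_false] at h1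
    exact five (by show 5 ∈ [2, 3, 4, 5, 6, 8, 9, 12]; decide) (fun _ => by omega) (by omega)
  case e7 q =>
    exfalso
    have h1 : 4 * c ∈ [2, 6, 8, 10, 12, 14, 18] := hi4
    have h3 : 18 < 6 * c := hM6
    simp only [List.mem_cons, List.not_mem_nil, or_false] at h1
    omega
  case e8 q =>
    exfalso
    have h1 : 4 * c ∈ [2, 8, 12, 14, 18, 20, 24, 30] := hi4
    have h3 : 30 < 6 * c := hM6
    have h4 : 120 ≤ 12 * c := hag
    simp only [List.mem_cons, List.not_mem_nil, or_false] at h1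
    omega
  case te6 q =>
    exfalso
    have h1 : 4 * c ∈ [2, 10, 6, 8, 18, 12] := hi4
    have h3 : 18 < 6 * c := hM6
    simp only [List.mem_cons, List.not_mem_nil, or_false] at h1
    omega
  case td4 q =>
    exfalso
    have h1 : 4 * c ∈ [2, 6, 12] := hi4
    have h2 : 3 * c ∈ [2, 6, 12] := hj
    simp only [List.mem_cons, List.not_mem_nil, or_false] at h1 h2
    omega
  case sz q =>
    exfalso
    have h1 : 4 * c ∈ [1, 4] := hi4
    have h2 : 3 * c ∈ [1, 4] := hj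
    simp only [List.mem_cons, List.not_mem_nil, or_false] at h1 h2
    omega
  case ree q =>
    exfalso
    have h1 : 4 * c ∈ [1, 6] := hi4
    simp only [List.mem_cons, List.not_mem_nil, or_false] at h1
    omega
  case tf4 q =>
    exfalso
    have h1 : 4 * c ∈ [1, 6, 4, 12] := hi4
    have h2 : 3 * c ∈ [1, 6, 4, 12] := hj
    simp only [List.mem_cons, List.not_mem_nil, or_false] at h1 h2
    omega
  all_goals exact absurd hch not_false

end

end Cfsg.Agent.H60.O8R
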