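import Cfsg.Agent.H60.O8R.Subf
import Cfsg.Agent.H823.O8R.Defs
import Cfsg.Agent.H659.O8.Own
import Cfsg.Agent.OddHalf.Known
import Cfsg.Agent.H925.EvenFine

/-!
# S3691, `PΩ₈⁺(q)`, box F34: subfields of index two (helper60)
-/

set_option autoImplicit false
set_option linter.unusedSectionVars false

namespace Cfsg.Agent.H60.O8R

section General

open Module QuadraticMap Cfsg Cfsg.Geo Cfsg.Agent.LieClassical.OrthCore Cfsg.Agent.LieClassical.OrthTrans
open Cfsg.Agent.LieClassical.OrthFinite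
open scoped MatrixGroups Matrix

universe u

variable {ι : Type} [Fintype ι] [DecidableEq ι] {F : Type u} [Field F] {F₁ : Subfield F} {B : GL ι F}

/-- the scalar of an element of `p`-power order -/
theorem c_mem [Finite F] [Nonempty ι] {p a k : ℕ} (ha : 1 ≤ a) (hF : Nat.card F = p ^ a) {M : GL ι F}
    (hM : M ^ p ^ k = 1) {c : F} {N : Matrix ι ι F₁} (hN : ∀ i j, (N i j : F) = c * (M : Matrix ι ι F) i j) : c ∈ F₁ := by
  have : Fintype F := Fintype.ofFinite F
  obtain ⟨i⟩ := ‹Nonempty ι›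
  have h1 : F₁.subtype.mapMatrix N = c • (M : Matrix ι ι F) := by
    ext i j
    exact hN i j
  have h2 : F₁.subtype.mapMatrix (N ^ p ^ k) = c ^ p ^ k • (1 : Matrix ι ι F) := by
    rw [map_pow, h1, smul_pow, ← Units.val_pow_eq_pow_val, hM, Units.val_one]
  have h3 : c ^ p ^ k ∈ F₁ := by
    have h4 := congrFun (congrFun h2 i) i
    rw [Matrix.smul_apply, Matrix.one_apply_eq, smul_eq_mul, mul_one] at h4
    rw [← h4]
    exact ((N ^ p ^ k) i i).2
  have h5 : c ^ (p ^ a) ^ k = c := by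
    rw [← hF, Nat.card_eq_fintype_card, FiniteField.pow_card_pow]
  have h6 : (p ^ a) ^ k = p ^ k * p ^ (a * k - k) := by
    rw [← pow_add, ← pow_mul]
    congr 1
    have : k ≤ a * k := Nat.le_mul_of_pos_left k ha
    omega
  rw [← h5, h6, pow_mul]
  exact F₁.pow_mem h3 _

variable (B) in
/-- the embedding -/
def th : GL ι F₁ →* GL ι F := (MulAut.conj B).toMonoidHom.comp (Matrix.GeneralLinearGroup.map F₁.subtype)

theorem th_apply (g : GL ι F₁) : th B g = B * Matrix.GeneralLinearGroup.map F₁.subtype g * B⁻¹ := rfl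

theorem th_inj : Function.Injective (th B (F₁ := F₁)) := by
  intro x y hxy
  have h1 : Matrix.GeneralLinearGroup.map F₁.subtype x = Matrix.GeneralLinearGroup.map F₁.subtype y :=
    (MulAut.conj B).injective hxy
  apply Units.ext
  ext i j
  exact congrArg (fun g : GL ι F => (g : Matrix ι ι F) i j) h1

theorem th_bb (g : GL ι F₁) (u : ι → F₁) :
    ((th B g : GL ι F) : Matrix ι ι F) *ᵥ bb B u = bb B ((g : Matrix ι ι F₁) *ᵥ u) := by
  have h1 : ((Matrix.GeneralLinearGroup.map F₁.subtype g : GL ι F) : Matrix ι ι F) *ᵥ em u =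
      em ((g : Matrix ι ι F₁) *ᵥ u) := by
    funext i
    simp only [em, Matrix.mulVec, dotProduct]
    rw [← Subfield.coe_subtype, map_sum]
    refine Finset.sum_congr rfl fun j _ => ?_
    rw [map_mul]
    rfl
  rw [th_apply, bb, bb, ← h1, Matrix.mulVec_mulVec, Matrix.mulVec_mulVec, ← Units.val_mul, ← Units.val_mul,
    inv_mul_cancel_right]

theorem mem_range_th {g : GL ι F} (hg : ∀ i j, ((B⁻¹ * g * B : GL ι F) : Matrix ι ι F) i j ∈ F₁) : g ∈ (th B (F₁ := F₁)).range := by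
  let N : Matrix ι ι F₁ := fun i j => ⟨_, hg i j⟩
  have h1 : F₁.subtype.mapMatrix N = ((B⁻¹ * g * B : GL ι F) : Matrix ι ι F) := by
    ext i j
    rfl
  have hdet : N.det ≠ 0 := by
    intro h
    have h2 := RingHom.map_det F₁.subtype N
    rw [h, map_zero, h1] at h2
    have h3 : IsUnit ((B⁻¹ * g * B : GL ι F) : Matrix ι ι F).det := (Matrix.isUnit_iff_isUnit_det _).1 (Units.isUnit _)
    exact h3.ne_zero h2.symm
  refine ⟨Matrix.GeneralLinearGroup.mkOfDetNeZero N hdet, ?_⟩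
  have h4 : Matrix.GeneralLinearGroup.map F₁.subtype (Matrix.GeneralLinearGroup.mkOfDetNeZero N hdet) = B⁻¹ * g * B := by
    apply Units.ext
    exact h1
  rw [th_apply, h4]
  group

variable {Q : QuadraticForm F (ι → F)} {ζ : F}

theorem lin_ind {u w : ι → F₁} (hζ : ζ ≠ 0) (hu : u ≠ 0) (hw : w ∉ Submodule.span F₁ {u}) :
    LinearIndependent F ![bb B u, ζ • bb B w] := by
  have hu' : bb B u ≠ 0 := fun h => hu (bb_inj B (by rw [h, bb_zero]))
  rw [LinearIndependent.pair_iff' hu']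
  intro b hb
  apply hw
  have h1 : (ζ⁻¹ * b) • bb B u = bb B w := by
    rw [mul_smul, hb, smul_smul, inv_mul_cancel₀ hζ, one_smul]
  have h2 : (ζ⁻¹ * b) • em u = em w := by
    rw [← inv_bb B w, ← h1, Matrix.mulVec_smul, inv_bb]
  obtain ⟨i, hi⟩ : ∃ i, u i ≠ 0 := by
    by_contra hcon
    push Not at hcon
    exact hu (funext hcon)
  have hi' : (u i : F) ≠ 0 := fun h => hi (Subtype.ext h)
  have h3 : (ζ⁻¹ * b) = ((w i / u i : F₁) : F) := by
    have h4 : (ζ⁻¹ * b) * (u i : F) = w i := congrFun h2 i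
    rw [Subfield.coe_div, eq_div_iff hi', h4]
  rw [Submodule.mem_span_singleton]
  refine ⟨w i / u i, ?_⟩
  apply em_inj
  rw [em_smul, ← h3, h2]

/-- **subfields of index two** -/
theorem main [Finite F] (hQ : Nondeg Q) (hζ : ζ ≠ 0) (hB : IsFormRationalStructure (polar Q) F₁ ζ B)
    (hι : Fintype.card ι = 8) (hF1 : Nat.card F = Nat.card F₁ ^ 2) {p a : ℕ} (hp : p.Prime) (ha : 1 ≤ a)
    (hF : Nat.card F = p ^ a) {H : Subgroup (GL ι F)} (hH : ∀ h ∈ H, ∀ v, Q ((h : Matrix ι ι F) *ᵥ v) = Q v)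
    (hirr : ActsIrreducibly (matrixSet H)) (hHB : H ≤ subfieldSubgroup F₁ B) (hc : p ^ (5 * a) ∣ Nat.card H) :
    ∃ (u w : ι → F) (hu : Q u = 0) (hw : polar Q u w = 0), LinearIndependent F ![u, w] ∧
      (glEquiv ι F).symm (siegel Q u w hu hw) ∈ H := by
  have hpf : Fact p.Prime := ⟨hp⟩
  have hne : Nonempty ι := Fintype.card_pos_iff.1 (by omega)
  have hr : ∀ u : ι → F₁, ζ * Q (bb B u) ∈ F₁ := rat_Q hQ hζ hB (by omega) hF1 hH hirr hHB
  -- the order of the subfield
  obtain ⟨f, hfa, hf⟩ : ∃ f, f ≤ a ∧ Nat.card F₁ = p ^ f := by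
    refine (Nat.dvd_prime_pow hp).1 ?_
    rw [← hF, hF1, pow_two]
    exact Dvd.intro _ rfl
  have haf : a = 2 * f := by
    rw [hF, hf, ← pow_mul] at hF1
    have := Nat.pow_right_injective hp.two_le hF1
    omega
  -- a Sylow `p`-subgroup
  obtain ⟨S⟩ : Nonempty (Sylow p H) := inferInstance
  let P : Subgroup (GL ι F) := (S : Subgroup H).map H.subtype
  have hPH : P ≤ H := Subgroup.map_subtype_le _
  have hPp : IsPGroup p P := S.2.map _
  have hPc : p ^ (5 * a) ≤ Nat.card P := by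
    have h1 : Nat.card P = Nat.card S := Subgroup.card_map_of_injective (Subgroup.subtype_injective _)
    rw [h1]
    exact Nat.le_of_dvd Nat.card_pos (S.pow_dvd_card_of_pow_dvd_card hc)
  have hPr : P ≤ (th B (F₁ := F₁)).range := by
    intro g hg
    obtain ⟨c, hc0, N, hN, -⟩ := exists_N (hHB (hPH hg))
    obtain ⟨k, hk⟩ := hPp ⟨g, hg⟩
    have hk' : g ^ p ^ k = 1 := congrArg Subtype.val hk
    have h1 : (B⁻¹ * g * B) ^ p ^ k = 1 := by
      have h2 : B⁻¹ * g * B = MulAut.conj B⁻¹ g := by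
        rw [MulAut.conj_apply, inv_inv]
      rw [h2, ← map_pow, hk', map_one]
    have h3 : c ∈ F₁ := c_mem ha hF h1 hN
    apply mem_range_th
    intro i j
    have h4 : ((B⁻¹ * g * B : GL ι F) : Matrix ι ι F) i j = c⁻¹ * (N i j : F) := by
      rw [hN, inv_mul_cancel_left₀ hc0]
    rw [h4]
    exact F₁.mul_mem (F₁.inv_mem h3) (N i j).2
  let P1 : Subgroup (GL ι F₁) := P.comap (th B)
  have hP1 : P1.map (th B) = P := Subgroup.map_comap_eq_self hPr
  let PL : Subgroup ((ι → F₁) ≃ₗ[F₁] (ι → F₁)) := P1.map (glEquiv ι F₁).toMonoidHom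
  have hPLc : Nat.card PL = Nat.card P := by
    have h1 : Nat.card PL = Nat.card P1 := Subgroup.card_map_of_injective (glEquiv ι F₁).injective
    rw [h1, ← hP1]
    exact (Subgroup.card_map_of_injective th_inj).symm
  have hPLO : PL ≤ O (Q1 hB hr) := by
    rintro _ ⟨g, hg, rfl⟩
    rw [mem_O]
    intro v
    apply Subtype.ext
    change ((Q1 hB hr ((g : Matrix ι ι F₁) *ᵥ v) : F₁) : F) = _
    rw [Q1_apply, Q1_apply, ← th_bb, hH _ (hPH hg)]
  have hPLp : IsPGroup p PL := by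
    obtain ⟨k, hk⟩ := IsPGroup.iff_card.1 hPp
    exact IsPGroup.of_card (n := k) (by rw [hPLc, hk])
  have hcard : Nat.card F₁ ^ 10 ≤ Nat.card PL := by
    rw [hPLc, hf, ← pow_mul]
    refine le_of_eq_of_le ?_ hPc
    congr 1
    omega
  obtain ⟨u, w, hu, hw, hu0, hwu, g, hg, hgs⟩ := exists_siegel (Q1_nondeg hB hr hQ hζ)
    (by rw [Module.finrank_fintype_fun_eq_card, hι]) hp (by omega) hf hPLO hPLp hcard
  have hu' : Q (bb B u) = 0 := by
    have h1 : ((Q1 hB hr u : F₁) : F) = 0 := by rw [hu]; rfl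
    rw [Q1_apply] at h1
    exact (mul_eq_zero.1 h1).resolve_left hζ
  have hw' : polar Q (bb B u) (ζ • bb B w) = 0 := by
    have h1 : ((polar (Q1 hB hr) u w : F₁) : F) = 0 := by rw [hw]; rfl
    rw [Q1_polar] at h1
    rw [polar_smul_right, smul_eq_mul, h1]
  refine ⟨bb B u, ζ • bb B w, hu', hw', lin_ind hζ hu0 hwu, ?_⟩
  have key : (glEquiv ι F).symm (siegel Q (bb B u) (ζ • bb B w) hu' hw') = th B g := by
    rw [MulEquiv.symm_apply_eq]
    apply LinearEquiv.toLinearMap_injective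
    apply ext_bb (F₁ := F₁) B
    intro v
    change siegel Q (bb B u) (ζ • bb B w) hu' hw' (bb B v) = ((th B g : GL ι F) : Matrix ι ι F) *ᵥ bb B v
    have h1 : (g : Matrix ι ι F₁) *ᵥ v = siegel (Q1 hB hr) u w hu hw v := by
      rw [← hgs]
      rfl
    rw [th_bb, h1, siegel_apply, siegel_apply]
    have hsub : ∀ x y : ι → F₁, bb B (x - y) = bb B x - bb B y := by
      intro x y
      have : x - y = x + (-1 : F₁) • y := by rw [neg_smul, one_smul, sub_eq_add_neg]
      rw [this, bb_add, bb_smul]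
      simp [sub_eq_add_neg]
    rw [hsub, hsub, bb_add, bb_smul, bb_smul, bb_smul, Q1_polar, Q1_polar, Subfield.coe_mul, Q1_apply, Q1_polar,
      polar_smul_left, QuadraticMap.map_smul, smul_smul, smul_eq_mul, smul_eq_mul]
    have e1 : polar Q (bb B u) (bb B v) * ζ = ζ * polar Q (bb B u) (bb B v) := mul_comm _ _
    have e2 : ζ * ζ * Q (bb B w) * polar Q (bb B u) (bb B v) = ζ * Q (bb B w) * (ζ * polar Q (bb B u) (bb B v)) := by
      ring
    rw [e1, e2]
  rw [key]
  exact hPH hg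

end General

section Stub

open Module QuadraticMap Cfsg Cfsg.Geo Cfsg.Agent.LieClassical.OrthCore Cfsg.Agent.H955 Cfsg.Agent.H954.TSing
open Cfsg.Agent.LieClassical.OmegaReindex Cfsg.Agent.H915.LD Cfsg.Agent.H902 Cfsg.Agent.H902.Names
open Cfsg.Agent.H951 (fx cm Inv)
open Cfsg.Agent.H884.El
open Cfsg.Agent.H708.O8 (I8 T8 RB)
open Cfsg.Agent.H823.O8S Cfsg.Agent.H823.O8R
open scoped MatrixGroups Matrix

variable {F : Type} [Field F] [Fintype F] {p a r b s k t : ℕ} {R : Subgroup (T8 F)}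

/-- (F34-E) subfields of index two -/
theorem subf34 (hF : Nat.card F = p ^ a) (h : Nm p a r b s k t) {H : Subgroup (GL I8 F)}
    (hH : H ≤ isometryGroup F (quadFormPlus 4 F)) (hirr : ActsIrreducibly (matrixSet H)) (hp : p ^ (5 * a) ∣ Nat.card H)
    {F₁ : Subfield F} {B : GL I8 F} {ζ : F} (hζ : ζ ≠ 0) (hF1 : Nat.card F = Nat.card F₁ ^ 2)
    (hB : IsFormRationalStructure (polar (quadFormPlus 4 F)) F₁ ζ B) (hHB : H ≤ subfieldSubgroup F₁ B) :
    ∃ (u w : I8 → F) (hu : LieClassical.QuadForms.plusForm 4 F u = 0)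
      (hw : polar (LieClassical.QuadForms.plusForm 4 F) u w = 0), LinearIndependent F ![u, w] ∧
      (LieClassical.OrthFinite.glEquiv I8 F).symm (LieClassical.OrthCore.siegel (LieClassical.QuadForms.plusForm 4 F) u w hu hw) ∈ H := by
  have hB' : IsFormRationalStructure (polar (LieClassical.QuadForms.plusForm 4 F)) F₁ ζ B := by
    rw [LieClassical.QuadForms.coe_plusForm]
    exact hB
  refine main (fun u hu => LieClassical.QuadForms.polar_plusForm_nondeg 4 u hu) hζ hB' (by decide) hF1 h.rb.hp h.rb.ha hF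
    ?_ hirr hHB hp
  intro g hg v
  rw [LieClassical.QuadForms.coe_plusForm]
  exact LieClassical.OrthFinite.mem_isometryGroup_iff.1 (hH hg) v

end Stub

end Cfsg.Agent.H60.O8R
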