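import Cfsg.Agent.H311.PD.Sieg
import Cfsg.Agent.H955.QMinus
import Cfsg.Agent.H81.CycSInd
import Cfsg.Agent.S0287
import Cfsg.Agent.S0288

/-!
# S3691, `PΩ₈⁺(q)`: a `p`-group of isometries of order `≥ q^10` in dimension 8 contains a Siegel transformation (helper60)
-/

set_option autoImplicit false
set_option linter.unusedSectionVars false

namespace Cfsg.Agent.H60.O8R

open Module QuadraticMap Cfsg Cfsg.Geo Cfsg.Agent.LieClassical.OrthCore Cfsg.Agent.LieClassical.OrthTrans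
open Cfsg.Agent.LieClassical.OrthFinite Cfsg.Agent.LieClassical.QuadForms Cfsg.Agent.H311.PD
open Cfsg.Agent.H81.CycS (card_O_congr)

universe u v

variable {K : Type u} [Field K] {V : Type v} [AddCommGroup V] [Module K V] [Finite K] [Finite V] {Q : QuadraticForm K V}

/-- the order of an orthogonal group of dimension eight -/
theorem card_O_eight (hQ : Nondeg Q) (hd : finrank K V = 8) {p f : ℕ} (hp : p.Prime) (hf : 1 ≤ f) (hK : Nat.card K = p ^ f) :
    ∃ N, ¬ p ∣ N ∧ Nat.card (O Q) = 2 * Nat.card K ^ 12 * N := by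
  have : Fintype K := Fintype.ofFinite K
  have hnd : ∀ {x : ℕ}, p ∣ x → 1 ≤ x → ¬ p ∣ x - 1 := by
    intro x hx h1 h2
    have h3 := Nat.dvd_sub hx h2
    rw [Nat.sub_sub_self h1] at h3
    exact hp.one_lt.ne' (Nat.dvd_one.1 h3)
  have hnp : ∀ {x : ℕ}, p ∣ x → ¬ p ∣ x + 1 := by
    intro x hx h2
    have h3 := Nat.dvd_sub h2 hx
    rw [Nat.add_sub_cancel_left] at h3
    exact hp.one_lt.ne' (Nat.dvd_one.1 h3)
  have hq : 1 ≤ Nat.card K := Nat.card_pos
  have hpq : ∀ k, 1 ≤ k → p ∣ Nat.card K ^ k := fun k hk => by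
    rw [hK]
    exact dvd_pow (dvd_pow_self p (by omega)) (by omega)
  have hpr : ¬ p ∣ ∏ i ∈ Finset.range (4 - 1), (Nat.card K ^ (2 * (i + 1)) - 1) := by
    intro h
    rw [Prime.dvd_finsetProd_iff hp.prime] at h
    obtain ⟨i, -, hi⟩ := h
    exact hnd (hpq _ (by omega)) (Nat.one_le_pow _ _ hq) hi
  by_cases hP : H955.IsPlus Q
  · obtain ⟨e, he⟩ := H955.exists_plus_equiv 4 Q hQ hd hP
    rw [card_O_congr e he, ← Nat.card_congr (isometryEquiv (plusForm 4 K)).toEquiv, coe_plusForm,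
      S0287.result (F := K) (q := Nat.card K) Nat.card_eq_fintype_card.symm 4 (by norm_num)]
    refine ⟨(Nat.card K ^ 4 - 1) * ∏ i ∈ Finset.range (4 - 1), (Nat.card K ^ (2 * (i + 1)) - 1), ?_, by ring⟩
    intro h
    rcases hp.dvd_mul.1 h with h | h
    · exact hnd (hpq _ (by omega)) (Nat.one_le_pow _ _ hq) h
    · exact hpr h
  · obtain ⟨a, b, hab⟩ := H955.exists_aniso_coeff K
    obtain ⟨e, he⟩ := H955.exists_minus_equiv hab 3 Q hQ hd hP
    have h6 := S0288.result (F := K) (q := Nat.card K) Nat.card_eq_fintype_card.symm 4 (by norm_num) a b hab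
    rw [card_O_congr e he, ← Nat.card_congr (isometryEquiv (minusForm 3 K a b)).toEquiv, coe_minusForm]
    rw [show 4 - 1 = 3 from rfl] at h6
    rw [h6]
    refine ⟨(Nat.card K ^ 4 + 1) * ∏ i ∈ Finset.range (4 - 1), (Nat.card K ^ (2 * (i + 1)) - 1), ?_, by norm_num; ring⟩
    intro h
    rcases hp.dvd_mul.1 h with h | h
    · exact hnp (hpq _ (by omega)) h
    · exact hpr h

/-- a `p`-group of isometries fixes a nonzero singular vector -/
theorem exists_fix (hG : Good Q) {p f : ℕ} [hp : Fact p.Prime] (hf : 1 ≤ f) (hK : Nat.card K = p ^ f)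
    {R : Subgroup (V ≃ₗ[K] V)} (hRO : R ≤ O Q) (hR : IsPGroup p R) :
    ∃ u : V, u ≠ 0 ∧ Q u = 0 ∧ ∀ g ∈ R, g u = u := by
  let act : MulAction ↥R {v : V // Q v = 0} :=
    { smul := fun g v => ⟨(g : V ≃ₗ[K] V) v, by rw [hRO g.2]; exact v.2⟩
      one_smul := fun v => rfl
      mul_smul := fun g h v => rfl }
  have hsm : ∀ (g : ↥R) (v : {v : V // Q v = 0}), ((g • v : {v : V // Q v = 0}) : V) = (g : V ≃ₗ[K] V) v := fun _ _ => rfl
  have h1 := hR.card_modEq_card_fixedPoints {v : V // Q v = 0}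
  have h2 : p ∣ Nat.card (MulAction.fixedPoints ↥R {v : V // Q v = 0}) :=
    Nat.modEq_zero_iff_dvd.1 (h1.symm.trans (Nat.modEq_zero_iff_dvd.2 (card_sing hG hf hK)))
  have h3 : (⟨0, QuadraticMap.map_zero _⟩ : {v : V // Q v = 0}) ∈ MulAction.fixedPoints ↥R {v : V // Q v = 0} := by
    intro g
    apply Subtype.ext
    rw [hsm]
    exact map_zero _
  have h4 : Nontrivial (MulAction.fixedPoints ↥R {v : V // Q v = 0}) := by
    rw [← Finite.one_lt_card_iff_nontrivial]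
    have h5 : 0 < Nat.card (MulAction.fixedPoints ↥R {v : V // Q v = 0}) := by
      have : Nonempty (MulAction.fixedPoints ↥R {v : V // Q v = 0}) := ⟨⟨_, h3⟩⟩
      exact Nat.card_pos
    exact lt_of_lt_of_le hp.out.one_lt (Nat.le_of_dvd h5 h2)
  obtain ⟨x, hx⟩ := exists_ne (⟨_, h3⟩ : MulAction.fixedPoints ↥R {v : V // Q v = 0})
  refine ⟨x.1.1, fun h => hx (Subtype.ext (Subtype.ext h)), x.1.2, fun g hg => ?_⟩
  exact congrArg Subtype.val (x.2 ⟨g, hg⟩)

/-- the Siegel group in `O Q` -/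
def XO (Q : QuadraticForm K V) (u : V) (hu : Q u = 0) : Subgroup (V ≃ₗ[K] V) := (X Q u hu).map (E Q).subtype

theorem mem_XO {u : V} {hu : Q u = 0} {g : V ≃ₗ[K] V} :
    g ∈ XO Q u hu ↔ ∃ (w : V) (hw : polar Q u w = 0), g = siegel Q u w hu hw := by
  constructor
  · rintro ⟨x, ⟨w, hw, hx⟩, rfl⟩
    exact ⟨w, hw, hx⟩
  · rintro ⟨w, hw, rfl⟩
    exact ⟨⟨_, siegel_mem_E hu hw⟩, ⟨w, hw, rfl⟩, rfl⟩

theorem XO_conj {u : V} (hu : Q u = 0) {g : V ≃ₗ[K] V} (hg : g ∈ O Q) (hgu : g u = u) {x : V ≃ₗ[K] V} (hx : x ∈ XO Q u hu) :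
    g * x * g⁻¹ ∈ XO Q u hu := by
  obtain ⟨w, hw, rfl⟩ := mem_XO.1 hx
  have hu' : Q (g u) = 0 := by rw [hgu]; exact hu
  have hw' : polar Q (g u) (g w) = 0 := by rw [polar_map hg]; exact hw
  rw [mem_XO]
  refine ⟨g w, by rw [← hw', hgu], ?_⟩
  rw [siegel_conj hg hu hw hu' hw']
  congr 1

/-- **the main lemma** -/
theorem exists_siegel (hQ : Nondeg Q) (hd : finrank K V = 8) {p f : ℕ} (hp : p.Prime) (hf : 1 ≤ f) (hK : Nat.card K = p ^ f)
    {P : Subgroup (V ≃ₗ[K] V)} (hPO : P ≤ O Q) (hPp : IsPGroup p P) (hc : Nat.card K ^ 10 ≤ Nat.card P) :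
    ∃ (u w : V) (hu : Q u = 0) (hw : polar Q u w = 0), u ≠ 0 ∧ w ∉ Submodule.span K {u} ∧ siegel Q u w hu hw ∈ P := by
  have hpf : Fact p.Prime := ⟨hp⟩
  have hG : Good Q := good_of_finite hQ (by omega)
  obtain ⟨u, hu0, hu, hfix⟩ := exists_fix hG hf hK hPO hPp
  have hfinV : Finite (V ≃ₗ[K] V) := Finite.of_injective (fun g : V ≃ₗ[K] V => (g : V → V)) DFunLike.coe_injective
  have hXp : IsPGroup p (XO Q u hu) := by
    have h1 := isPGroup_X hG ⟨f, hK⟩ hu hu0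
    exact h1.map _
  have hXc : Nat.card (XO Q u hu) = Nat.card K ^ 6 := by
    have h1 : Nat.card (XO Q u hu) = Nat.card (X Q u hu) := Subgroup.card_map_of_injective (Subgroup.subtype_injective _)
    have h2 := card_X hG hu hu0
    rw [hd] at h2
    have h3 : 0 < Nat.card K ^ 2 := Nat.pow_pos Nat.card_pos
    rw [h1]
    apply Nat.eq_of_mul_eq_mul_right h3
    rw [h2]
    ring
  have hXO : XO Q u hu ≤ O Q := by
    intro g hg
    obtain ⟨w, hw, rfl⟩ := mem_XO.1 hg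
    exact siegel_mem_O hu hw
  have hnorm : P ≤ Subgroup.normalizer (XO Q u hu : Set (V ≃ₗ[K] V)) := by
    intro g hg
    rw [Subgroup.mem_normalizer_iff]
    intro x
    refine ⟨fun hx => XO_conj hu (hPO hg) (hfix g hg) hx, fun hx => ?_⟩
    have h1 := XO_conj hu (inv_mem (hPO hg)) (hfix g⁻¹ (inv_mem hg)) hx
    have h2 : g⁻¹ * (g * x * g⁻¹) * g⁻¹⁻¹ = x := by group
    rwa [h2] at h1
  by_cases hdis : Disjoint P (XO Q u hu)
  · exfalso
    -- the product
    have hPX : IsPGroup p ↥(P ⊔ XO Q u hu) := IsPGroup.to_sup_of_normal_right' hPp hXp hnorm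
    have h1 : Nat.card P * Nat.card (XO Q u hu) ≤ Nat.card ↥(P ⊔ XO Q u hu) := by
      rw [← Nat.card_prod]
      refine Nat.card_le_card_of_injective (fun x : P × XO Q u hu => (⟨x.1 * x.2,
        mul_mem (Subgroup.mem_sup_left x.1.2) (Subgroup.mem_sup_right x.2.2)⟩ : ↥(P ⊔ XO Q u hu))) ?_
      intro x y hxy
      exact Subgroup.mul_injective_of_disjoint hdis (congrArg Subtype.val hxy)
    obtain ⟨k, hk⟩ := IsPGroup.iff_card.1 hPX
    obtain ⟨N, hN, hO⟩ := card_O_eight hQ hd hp hf hK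
    have h2 : p ^ k ∣ 2 * Nat.card K ^ 12 * N := by
      rw [← hk, ← hO]
      exact Subgroup.card_dvd_of_le (sup_le hPO hXO)
    have h3 : p ^ k ∣ 2 * Nat.card K ^ 12 :=
      (Nat.Coprime.pow_left k ((Nat.Prime.coprime_iff_not_dvd hp).2 hN)).dvd_of_dvd_mul_right h2
    have hq : 2 ≤ Nat.card K := Finite.one_lt_card
    have h4 : p ^ k ≤ 2 * Nat.card K ^ 12 := Nat.le_of_dvd (Nat.mul_pos (by norm_num) (Nat.pow_pos (by omega))) h3
    have h5 : Nat.card K ^ 10 * Nat.card K ^ 6 ≤ Nat.card P * Nat.card (XO Q u hu) := by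
      rw [hXc]
      exact Nat.mul_le_mul_right _ hc
    have h6 : Nat.card K ^ 12 * 16 ≤ Nat.card K ^ 10 * Nat.card K ^ 6 := by
      calc Nat.card K ^ 12 * 16 ≤ Nat.card K ^ 12 * Nat.card K ^ 4 := by
            apply Nat.mul_le_mul_left
            calc 16 = 2 ^ 4 := by norm_num
              _ ≤ Nat.card K ^ 4 := Nat.pow_le_pow_left hq 4
        _ = _ := by ring
    have h7 : 0 < Nat.card K ^ 12 := Nat.pow_pos (by omega)
    rw [hk] at h1
    omega
  · rw [disjoint_iff] at hdis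
    obtain ⟨⟨gv, hgP, hgX⟩, hg1⟩ := Subgroup.ne_bot_iff_exists_ne_one.1 hdis
    obtain ⟨w, hw, hgw⟩ := mem_XO.1 hgX
    refine ⟨u, w, hu, hw, hu0, fun h => hg1 ?_, hgw ▸ hgP⟩
    apply Subtype.ext
    change gv = 1
    rw [hgw]
    have h0 : polar Q u 0 = 0 := polar_zero_right _ _
    have h8 := (siegel_eq_iff hQ hu hu0 hw h0).2 (by rw [sub_zero]; exact h)
    rw [h8]
    ext v
    rw [siegel_apply, polar_zero_left, QuadraticMap.map_zero]
    simp

end Cfsg.Agent.H60.O8R
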