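import Cfsg.Agent.H60.O8R.Sg
import Cfsg.Agent.H914.Sub

/-!
# S3691, `PΩ₈⁺(q)`: subfields of index two (helper60)

`V = B F₁^ι ⊗ F`, `ζ f` rational on `B F₁^ι`: then `ζ Q` is rational too (irreducibility), and the elements of `p`-power order of
`H ≤ subfieldSubgroup F₁ B` are defined over `F₁`.
-/

set_option autoImplicit false
set_option linter.unusedSectionVars false

namespace Cfsg.Agent.H60.O8R

open Module QuadraticMap Cfsg Cfsg.Geo Cfsg.Agent.LieClassical.OrthCore Cfsg.Agent.LieClassical.OrthTrans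
open Cfsg.Agent.LieClassical.OrthFinite
open scoped MatrixGroups Matrix

universe u

variable {ι : Type} [Fintype ι] [DecidableEq ι] {F : Type u} [Field F] {F₁ : Subfield F}

/-- vectors over the subfield -/
def em (u : ι → F₁) : ι → F := fun i => (u i : F)

/-- the rational structure -/
def bb (B : GL ι F) (u : ι → F₁) : ι → F := (B : Matrix ι ι F) *ᵥ em u

theorem em_add (u v : ι → F₁) : em (u + v) = em u + em v := by
  funext i; simp [em]

theorem em_smul (a : F₁) (u : ι → F₁) : em (a • u) = (a : F) • em u := by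
  funext i; simp [em]

theorem em_zero : em (0 : ι → F₁) = 0 := by
  funext i; simp [em]

theorem em_single (i : ι) : em (Pi.single i 1 : ι → F₁) = Pi.single i 1 := by
  funext j
  by_cases h : j = i
  · subst h; simp [em]
  · simp [em, Pi.single_eq_of_ne h]

variable (B : GL ι F)

theorem bb_add (u v : ι → F₁) : bb B (u + v) = bb B u + bb B v := by
  rw [bb, em_add, Matrix.mulVec_add]; rfl

theorem bb_smul (a : F₁) (u : ι → F₁) : bb B (a • u) = (a : F) • bb B u := by
  rw [bb, em_smul, Matrix.mulVec_smul]; rfl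

theorem bb_zero : bb B (0 : ι → F₁) = 0 := by
  rw [bb, em_zero, Matrix.mulVec_zero]

theorem inv_bb (u : ι → F₁) : ((B⁻¹ : GL ι F) : Matrix ι ι F) *ᵥ bb B u = em u := by
  rw [bb, Matrix.mulVec_mulVec, ← Units.val_mul, inv_mul_cancel, Units.val_one, Matrix.one_mulVec]

theorem em_inj {u v : ι → F₁} (h : em u = em v) : u = v := by
  funext i
  exact Subtype.ext (congrFun h i)

theorem bb_inj {u v : ι → F₁} (h : bb B u = bb B v) : u = v := by
  apply em_inj
  rw [← inv_bb B u, h, inv_bb]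

/-- linear maps are determined by their values on the rational structure -/
theorem ext_bb {W : Type*} [AddCommGroup W] [Module F W] {f g : (ι → F) →ₗ[F] W} (h : ∀ u : ι → F₁, f (bb B u) = g (bb B u)) :
    f = g := by
  have h1 : f ∘ₗ Matrix.toLin' (B : Matrix ι ι F) = g ∘ₗ Matrix.toLin' (B : Matrix ι ι F) := by
    apply LinearMap.pi_ext'
    intro i
    ext
    have h2 := h (Pi.single i 1)
    rw [bb, em_single] at h2
    simpa using h2
  apply LinearMap.ext
  intro x
  have h3 := LinearMap.congr_fun h1 (((B⁻¹ : GL ι F) : Matrix ι ι F) *ᵥ x)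
  rw [LinearMap.comp_apply, LinearMap.comp_apply, Matrix.toLin'_apply, Matrix.mulVec_mulVec, ← Units.val_mul, mul_inv_cancel,
    Units.val_one, Matrix.one_mulVec] at h3
  exact h3

variable {B}

/-- a group element written over the subfield -/
theorem exists_N {h : GL ι F} (hh : h ∈ subfieldSubgroup F₁ B) : ∃ c : F, c ≠ 0 ∧ ∃ N : Matrix ι ι F₁,
    (∀ i j, (N i j : F) = c * ((B⁻¹ * h * B : GL ι F) : Matrix ι ι F) i j) ∧
    ∀ u : ι → F₁, c • ((h : Matrix ι ι F) *ᵥ bb B u) = bb B (N *ᵥ u) := by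
  obtain ⟨c, hc0, hc⟩ := H914.mem_subfieldSubgroup_iff.1 hh
  refine ⟨c, hc0, fun i j => ⟨_, hc i j⟩, fun i j => rfl, fun u => ?_⟩
  have h1 : em ((fun i j => (⟨_, hc i j⟩ : F₁) : Matrix ι ι F₁) *ᵥ u) =
      c • (((B⁻¹ * h * B : GL ι F) : Matrix ι ι F) *ᵥ em u) := by
    funext i
    simp only [em, Matrix.mulVec, dotProduct, Pi.smul_apply, smul_eq_mul, Finset.mul_sum]
    rw [← Subfield.coe_subtype, map_sum]
    refine Finset.sum_congr rfl fun j _ => ?_
    rw [map_mul]
    exact mul_assoc _ _ _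
  rw [bb, bb, h1, Matrix.mulVec_smul, Matrix.mulVec_mulVec, Matrix.mulVec_mulVec, ← Units.val_mul, ← Units.val_mul,
    ← mul_assoc, ← mul_assoc, mul_inv_cancel, one_mul]

variable {Q : QuadraticForm F (ι → F)} {ζ : F}

theorem rat (hB : IsFormRationalStructure (polar Q) F₁ ζ B) (u v : ι → F₁) : ζ * polar Q (bb B u) (bb B v) ∈ F₁ :=
  hB _ _ (fun i => (u i).2) (fun i => (v i).2)

theorem nondeg_bb (hQ : Nondeg Q) {x : ι → F} (h : ∀ v : ι → F₁, polar Q x (bb B v) = 0) : x = 0 := by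
  apply hQ
  intro y
  have h1 : polarBilin Q x = 0 := ext_bb (F₁ := F₁) B (fun u => h u)
  have := LinearMap.congr_fun h1 y
  exact this

/-- the square of the scalar is rational -/
theorem sq_mem [Nonempty ι] (hQ : Nondeg Q) (hζ : ζ ≠ 0) (hB : IsFormRationalStructure (polar Q) F₁ ζ B) {h : GL ι F}
    (hiso : ∀ v, Q ((h : Matrix ι ι F) *ᵥ v) = Q v) {c : F} {N : Matrix ι ι F₁}
    (hN : ∀ u : ι → F₁, c • ((h : Matrix ι ι F) *ᵥ bb B u) = bb B (N *ᵥ u)) : c ^ 2 ∈ F₁ := by
  obtain ⟨u, v, huv⟩ : ∃ u v : ι → F₁, polar Q (bb B u) (bb B v) ≠ 0 := by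
    by_contra hcon
    push Not at hcon
    obtain ⟨i⟩ := ‹Nonempty ι›
    have h1 := nondeg_bb (B := B) (F₁ := F₁) hQ (hcon (Pi.single i 1))
    have h2 : (Pi.single i 1 : ι → F₁) = 0 := by
      apply bb_inj B
      rw [h1, bb_zero]
    have := congrFun h2 i
    simp at this
  have hp : ∀ x y, polar Q ((h : Matrix ι ι F) *ᵥ x) ((h : Matrix ι ι F) *ᵥ y) = polar Q x y := by
    intro x y
    rw [polar, ← Matrix.mulVec_add, hiso, hiso, hiso, polar]
  have h3 : ζ * polar Q (bb B (N *ᵥ u)) (bb B (N *ᵥ v)) = c ^ 2 * (ζ * polar Q (bb B u) (bb B v)) := by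
    rw [← hN, ← hN, polar_smul_left, polar_smul_right, hp, smul_eq_mul, smul_eq_mul]
    ring
  have h4 := rat hB (N *ᵥ u) (N *ᵥ v)
  rw [h3] at h4
  have h5 := rat hB u v
  have h6 : ζ * polar Q (bb B u) (bb B v) ≠ 0 := mul_ne_zero hζ huv
  have h7 := F₁.mul_mem h4 (F₁.inv_mem h5)
  rwa [mul_assoc, mul_inv_cancel₀ h6, mul_one] at h7

/-- the rational vectors of rational norm -/
def SS (hB : IsFormRationalStructure (polar Q) F₁ ζ B) : Submodule F₁ (ι → F₁) where
  carrier := {u | ζ * Q (bb B u) ∈ F₁}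
  add_mem' := by
    intro u v hu hv
    change ζ * Q (bb B (u + v)) ∈ F₁
    rw [bb_add, Q_add, mul_add, mul_add]
    exact F₁.add_mem (F₁.add_mem hu hv) (rat hB u v)
  zero_mem' := by
    change ζ * Q (bb B 0) ∈ F₁
    rw [bb_zero, QuadraticMap.map_zero, mul_zero]
    exact F₁.zero_mem
  smul_mem' := by
    intro a u hu
    change ζ * Q (bb B (a • u)) ∈ F₁
    rw [bb_smul, QuadraticMap.map_smul, smul_eq_mul, mul_left_comm]
    exact F₁.mul_mem (F₁.mul_mem a.2 a.2) hu

theorem mem_SS {hB : IsFormRationalStructure (polar Q) F₁ ζ B} {u : ι → F₁} : u ∈ SS hB ↔ ζ * Q (bb B u) ∈ F₁ := Iff.rfl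

/-- `ζ Q` is rational -/
theorem rat_Q [Finite F] (hQ : Nondeg Q) (hζ : ζ ≠ 0) (hB : IsFormRationalStructure (polar Q) F₁ ζ B)
    (hι : 2 ≤ Fintype.card ι) (hF1 : Nat.card F = Nat.card F₁ ^ 2) {H : Subgroup (GL ι F)}
    (hH : ∀ h ∈ H, ∀ v, Q ((h : Matrix ι ι F) *ᵥ v) = Q v) (hirr : ActsIrreducibly (matrixSet H))
    (hHB : H ≤ subfieldSubgroup F₁ B) (u : ι → F₁) : ζ * Q (bb B u) ∈ F₁ := by
  have hne : Nonempty ι := Fintype.card_pos_iff.1 (by omega)
  rw [← mem_SS (hB := hB)]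
  suffices hS : SS hB = ⊤ by rw [hS]; trivial
  let W : Submodule F (ι → F) := Submodule.span F (bb B '' (SS hB : Set (ι → F₁)))
  have hW := hirr W (by
    rintro _ ⟨h, hh, rfl⟩
    rw [Submodule.map_le_iff_le_comap, Submodule.span_le]
    rintro _ ⟨u, hu, rfl⟩
    change Matrix.toLin' (h : Matrix ι ι F) (bb B u) ∈ W
    rw [Matrix.toLin'_apply]
    obtain ⟨c, hc, N, -, hN⟩ := exists_N (hHB hh)
    have h1 : (h : Matrix ι ι F) *ᵥ bb B u = c⁻¹ • bb B (N *ᵥ u) := by
      rw [← hN, smul_smul, inv_mul_cancel₀ hc, one_smul]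
    rw [h1]
    refine W.smul_mem _ (Submodule.subset_span ⟨_, ?_, rfl⟩)
    change ζ * Q (bb B (N *ᵥ u)) ∈ F₁
    rw [← hN, QuadraticMap.map_smul, hH h hh, smul_eq_mul, mul_left_comm, ← pow_two]
    exact F₁.mul_mem (sq_mem hQ hζ hB (hH h hh) hN) hu)
  rcases hW with hW | hW
  · -- a nonzero element
    exfalso
    let ψ : (ι → F₁) → F ⧸ F₁.toSubring.toAddSubgroup := fun u => (QuotientAddGroup.mk (ζ * Q (bb B u)))
    have hcard : Nat.card (F ⧸ F₁.toSubring.toAddSubgroup) = Nat.card F₁ := by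
      have h1 := AddSubgroup.card_eq_card_quotient_mul_card_addSubgroup F₁.toSubring.toAddSubgroup
      have h2 : Nat.card F₁.toSubring.toAddSubgroup = Nat.card F₁ := rfl
      rw [h2, hF1, pow_two] at h1
      exact (Nat.eq_of_mul_eq_mul_right Nat.card_pos h1).symm
    have hnot : ¬ Function.Injective ψ := by
      intro hinj
      have h1 := Nat.card_le_card_of_injective ψ hinj
      have h2 : Nat.card (ι → F₁) = Nat.card F₁ ^ Fintype.card ι := by
        rw [Nat.card_fun, Nat.card_eq_fintype_card (α := ι)]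
      have h3 : 2 ≤ Nat.card F₁ := Finite.one_lt_card
      have h4 : Nat.card F₁ ^ 2 ≤ Nat.card F₁ ^ Fintype.card ι := Nat.pow_le_pow_right (by omega) hι
      rw [hcard, h2] at h1
      have h5 : Nat.card F₁ * 2 ≤ Nat.card F₁ ^ 2 := by
        rw [pow_two]
        exact Nat.mul_le_mul_left _ h3
      omega
    obtain ⟨u, v, huv, hne'⟩ : ∃ u v, ψ u = ψ v ∧ u ≠ v := by
      simpa [Function.Injective] using hnot
    have h1 : u - v ∈ SS hB := by
      change ζ * Q (bb B (u - v)) ∈ F₁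
      have h2 : -(ζ * Q (bb B v)) + ζ * Q (bb B u) ∈ F₁.toSubring.toAddSubgroup := QuotientAddGroup.eq.1 huv.symm
      have h3 : -(ζ * Q (bb B v)) + ζ * Q (bb B u) ∈ F₁ := h2
      have h4 : bb B (u - v) = bb B u + -(bb B v) := by
        have : u - v = u + (-1 : F₁) • v := by rw [neg_smul, one_smul, sub_eq_add_neg]
        rw [this, bb_add, bb_smul]
        simp
      have h5 : ζ * Q (bb B (u - v)) = (-(ζ * Q (bb B v)) + ζ * Q (bb B u)) + (ζ * polar Q (bb B v) (bb B v) -
          ζ * polar Q (bb B u) (bb B v)) := by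
        rw [h4, Q_add, QuadraticMap.map_neg, polar_neg_right, polar_self']
        ring
      rw [h5]
      exact F₁.add_mem h3 (F₁.sub_mem (rat hB v v) (rat hB u v))
    have h2 : bb B (u - v) ∈ W := Submodule.subset_span ⟨_, h1, rfl⟩
    rw [hW, Submodule.mem_bot, ← bb_zero B (F₁ := F₁)] at h2
    exact hne' (sub_eq_zero.1 (bb_inj B h2))
  · by_contra hS
    obtain ⟨l, hl, hle⟩ := Submodule.exists_le_ker_of_lt_top (SS hB) (lt_top_iff_ne_top.2 hS)
    apply hl
    let μ : (ι → F) →ₗ[F] F := ∑ i, (l (Pi.single i 1) : F) • LinearMap.proj (R := F) (φ := fun _ : ι => F) i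
    have hμ : ∀ u : ι → F₁, μ (em u) = (l u : F) := by
      intro u
      have h1 : u = ∑ i, u i • (Pi.single i 1 : ι → F₁) := by
        funext j
        simp [Finset.sum_apply, Pi.single_apply]
      have h2 : μ (em u) = ∑ i, (l (Pi.single i 1) : F) * (u i : F) := by
        simp [μ, LinearMap.sum_apply, em]
      rw [h2]
      conv_rhs => rw [h1, map_sum]
      rw [← Subfield.coe_subtype, map_sum]
      refine Finset.sum_congr rfl fun i _ => ?_
      rw [map_smul, smul_eq_mul, map_mul, mul_comm]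
    let ν : (ι → F) →ₗ[F] F := μ ∘ₗ Matrix.toLin' ((B⁻¹ : GL ι F) : Matrix ι ι F)
    have hν : ∀ u : ι → F₁, ν (bb B u) = (l u : F) := by
      intro u
      rw [LinearMap.comp_apply, Matrix.toLin'_apply, inv_bb, hμ]
    have hker : W ≤ LinearMap.ker ν := by
      rw [Submodule.span_le]
      rintro _ ⟨u, hu, rfl⟩
      change ν (bb B u) = 0
      rw [hν]
      have : l u = 0 := hle hu
      rw [this]
      rfl
    rw [hW] at hker
    apply LinearMap.ext
    intro u
    have h1 : ν (bb B u) = 0 := hker Submodule.mem_top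
    rw [hν] at h1
    exact Subtype.ext h1

/-- the rational quadratic form -/
def Q1 (hB : IsFormRationalStructure (polar Q) F₁ ζ B) (hr : ∀ u : ι → F₁, ζ * Q (bb B u) ∈ F₁) :
    QuadraticForm F₁ (ι → F₁) where
  toFun u := ⟨ζ * Q (bb B u), hr u⟩
  toFun_smul a u := by
    apply Subtype.ext
    change ζ * Q (bb B (a • u)) = (a : F) * a * (ζ * Q (bb B u))
    rw [bb_smul, QuadraticMap.map_smul, smul_eq_mul, mul_left_comm]
  exists_companion' := by
    refine ⟨LinearMap.mk₂ F₁ (fun u v => ⟨ζ * polar Q (bb B u) (bb B v), rat hB u v⟩) ?_ ?_ ?_ ?_, ?_⟩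
    · intro u u' v
      apply Subtype.ext
      change ζ * polar Q (bb B (u + u')) (bb B v) = ζ * polar Q (bb B u) (bb B v) + ζ * polar Q (bb B u') (bb B v)
      rw [bb_add, polar_add_left, mul_add]
    · intro a u v
      apply Subtype.ext
      change ζ * polar Q (bb B (a • u)) (bb B v) = (a : F) * (ζ * polar Q (bb B u) (bb B v))
      rw [bb_smul, polar_smul_left, smul_eq_mul, mul_left_comm]
    · intro u v v'
      apply Subtype.ext
      change ζ * polar Q (bb B u) (bb B (v + v')) = ζ * polar Q (bb B u) (bb B v) + ζ * polar Q (bb B u) (bb B v')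
      rw [bb_add, polar_add_right, mul_add]
    · intro a u v
      apply Subtype.ext
      change ζ * polar Q (bb B u) (bb B (a • v)) = (a : F) * (ζ * polar Q (bb B u) (bb B v))
      rw [bb_smul, polar_smul_right, smul_eq_mul, mul_left_comm]
    · intro u v
      apply Subtype.ext
      change ζ * Q (bb B (u + v)) = ζ * Q (bb B u) + ζ * Q (bb B v) + ζ * polar Q (bb B u) (bb B v)
      rw [bb_add, Q_add, mul_add, mul_add]

section

variable (hB : IsFormRationalStructure (polar Q) F₁ ζ B) (hr : ∀ u : ι → F₁, ζ * Q (bb B u) ∈ F₁)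

theorem Q1_apply (u : ι → F₁) : ((Q1 hB hr u : F₁) : F) = ζ * Q (bb B u) := rfl

theorem Q1_polar (u v : ι → F₁) : ((polar (Q1 hB hr) u v : F₁) : F) = ζ * polar Q (bb B u) (bb B v) := by
  rw [polar, Subfield.coe_sub, Subfield.coe_sub, Q1_apply, Q1_apply, Q1_apply, bb_add, polar]
  ring

theorem Q1_nondeg (hQ : Nondeg Q) (hζ : ζ ≠ 0) : Nondeg (Q1 hB hr) := by
  intro x hx
  apply bb_inj B
  rw [bb_zero]
  apply nondeg_bb (B := B) (F₁ := F₁) hQ
  intro v
  have h1 := congrArg (fun z : F₁ => (z : F)) (hx v)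
  simp only [Q1_polar] at h1
  exact (mul_eq_zero.1 h1).resolve_left hζ

end

end Cfsg.Agent.H60.O8R
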